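import Mathlib

/-!
# Tame automorphisms which are trivial on the first graded pieces
-/

set_option autoImplicit false
universe u v

open IsLocalRing

namespace Groth.Agent.TameActLib

variable {A : Type u} [CommRing A] [IsLocalRing A] {G : Type v} [Group G] [MulSemiringAction G A]

theorem sub_mem_succ (g : G) (h1 : ∀ a : A, g • a - a ∈ maximalIdeal A)
    (h2 : ∀ a ∈ maximalIdeal A, g • a - a ∈ maximalIdeal A ^ 2) :
    ∀ (n : ℕ) (a : A), a ∈ maximalIdeal A ^ n → g • a - a ∈ maximalIdeal A ^ (n + 1) := by
  intro n
  induction n with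
  | zero => intro a _; simpa using h1 a
  | succ n ih =>
    intro a ha
    have hmem : ∀ b : A, b ∈ maximalIdeal A ^ n → g • b ∈ maximalIdeal A ^ n := fun b hb => by
      have := add_mem (Ideal.pow_le_pow_right (Nat.le_succ n) (ih b hb)) hb
      simpa using this
    rw [pow_succ'] at ha
    refine Submodule.mul_induction_on ha (fun x hx y hy => ?_) (fun x y hx hy => ?_)
    · rw [show g • (x * y) - x * y = (g • x - x) * g • y + x * (g • y - y) by rw [smul_mul']; ring]
      refine add_mem ?_ ?_
      · rw [show n + 1 + 1 = 2 + n by ring, pow_add]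
        exact Ideal.mul_mem_mul (h2 x hx) (hmem y hy)
      · rw [pow_succ']
        exact Ideal.mul_mem_mul hx (ih y hy)
    · rw [smul_add, add_sub_add_comm]; exact add_mem hx hy

theorem smul_eq_self [IsNoetherianRing A] [Finite G] (g : G)
    (hcard : IsUnit (Nat.card G : A)) (h1 : ∀ a : A, g • a - a ∈ maximalIdeal A)
    (h2 : ∀ a ∈ maximalIdeal A, g • a - a ∈ maximalIdeal A ^ 2) (a : A) : g • a = a := by
  have key : ∀ n : ℕ, g • a - a ∈ maximalIdeal A ^ n := by
    intro n
    induction n with
    | zero => simp
    | succ n ih =>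
      have hj : ∀ j : ℕ, g ^ j • a - a - (j : A) * (g • a - a) ∈ maximalIdeal A ^ (n + 1) := by
        intro j
        induction j with
        | zero => simp
        | succ j ihj =>
          have h3 : g • (g ^ j • a - a) - (g ^ j • a - a) ∈ maximalIdeal A ^ (n + 1) :=
            sub_mem_succ g h1 h2 n _ (by
              have := add_mem (Ideal.pow_le_pow_right (Nat.le_succ n) ihj) (Ideal.mul_mem_left _ (j : A) ih)
              simpa using this)
          have := add_mem h3 ihj
          rw [smul_sub, ← mul_smul, ← pow_succ'] at this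
          convert this using 1
          push_cast
          ring
      have hN := hj (Nat.card G)
      rw [pow_card_eq_one', one_smul, sub_self, zero_sub] at hN
      exact (Ideal.unit_mul_mem_iff_mem _ hcard).mp (neg_mem_iff.mp hN)
  have hbot := Ideal.iInf_pow_eq_bot_of_isLocalRing (maximalIdeal A) (maximalIdeal.isMaximal A).ne_top
  have : g • a - a ∈ (⨅ i : ℕ, maximalIdeal A ^ i) := Submodule.mem_iInf _ |>.mpr key
  rw [hbot] at this
  exact sub_eq_zero.mp ((Submodule.mem_bot A).mp this)

end Groth.Agent.TameActLib
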